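import Mathlib
import Cfsg.Prelude
import Cfsg.Agent.Lib.Helper37.CTI.NFC
import Cfsg.Agent.Lib.Helper80.CTIBasic
import Cfsg.Agent.Lib.Helper54.ZassInv
import Cfsg.Agent.Lib.Helper31.CNSolv
import Cfsg.Agent.Lib.Helper14.Cores
import Cfsg.Agent.S1474

set_option autoImplicit false

namespace Cfsg.Agent.Lib.Helper37.CTI

open Cfsg.Agent.Lib.Helper80.CTI

/-- Case 1: a self-normalizing centralizer is a nilpotent Frobenius complement. -/
theorem case1 {G : Type*} [Group G] [Finite G] (hTI : IsCTI G) (hnn : ¬ Group.IsNilpotent G)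
    (x : G) (hx : x ≠ 1)
    (hN : Subgroup.normalizer ((Subgroup.centralizer ({x} : Set G) : Subgroup G) : Set G)
      = Subgroup.centralizer ({x} : Set G)) :
    ∃ H : Subgroup G, Cfsg.IsFrobeniusComplement H ∧
      (IsCyclic H ∨ ∃ m : ℕ, Odd m ∧ Nonempty (H ≃* Multiplicative (ZMod m) × QuaternionGroup 2)) := by
  have hfrob : Cfsg.IsFrobeniusComplement (Subgroup.centralizer ({x} : Set G)) := by
    refine ⟨?_, ?_, ?_⟩
    · intro h
      have := self_mem_cen x
      rw [h, Subgroup.mem_bot] at this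
      exact hx this
    · intro h
      apply hnn
      apply hTI.nilpotent_of_center
      intro hZ
      have : x ∈ Subgroup.center G := by
        rw [Subgroup.mem_center_iff]
        intro g
        have hg : g ∈ Subgroup.centralizer ({x} : Set G) := by rw [h]; trivial
        rw [Subgroup.mem_centralizer_singleton_iff] at hg
        exact hg
      rw [hZ, Subgroup.mem_bot] at this
      exact hx this
    · intro g hg
      rw [eq_bot_iff]
      intro z hz
      obtain ⟨hz1, hz2⟩ := Subgroup.mem_inf.1 hz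
      rw [Subgroup.mem_pointwise_smul_iff_inv_smul_mem] at hz2
      have hz3 : g⁻¹ * z * g ∈ Subgroup.centralizer ({x} : Set G) := by
        simpa [MulAut.smul_def] using hz2
      have hgN : g ∉ Subgroup.normalizer
          ((Subgroup.centralizer ({x} : Set G) : Subgroup G) : Set G) := by
        rw [hN]; exact hg
      have h1 := hTI x g hgN (g⁻¹ * z * g) hz3 (by
        have : g * (g⁻¹ * z * g) * g⁻¹ = z := by group
        rw [this]; exact hz1)
      rw [Subgroup.mem_bot]
      have : z = g * (g⁻¹ * z * g) * g⁻¹ := by group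
      rw [this, h1]; group
  exact ⟨_, hfrob, nfc hTI _ hfrob (hTI.isCN x hx)⟩

/-- Case 2: some nontrivial centralizer is normal. -/
theorem case2 {G : Type*} [Group G] [Finite G] (hTI : IsCTI G) (hnn : ¬ Group.IsNilpotent G)
    (x : G) (hx : x ≠ 1) (hN : (Subgroup.centralizer ({x} : Set G)).Normal) :
    ∃ H : Subgroup G, Cfsg.IsFrobeniusComplement H ∧
      (IsCyclic H ∨ ∃ m : ℕ, Odd m ∧ Nonempty (H ≃* Multiplicative (ZMod m) × QuaternionGroup 2)) := by
  have hCN := hTI.isCN
  have hF1 : Cfsg.fittingSubgroup G ≠ ⊥ := by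
    intro h
    have h1 : Subgroup.centralizer ({x} : Set G) ≤ Cfsg.fittingSubgroup G :=
      le_sSup ⟨hN, hCN x hx⟩
    have h2 := h1 (self_mem_cen x)
    rw [h, Subgroup.mem_bot] at h2
    exact hx h2
  have hex : ∃ p : Nat.Primes, Cfsg.pCore (p : ℕ) G ≠ ⊥ := by
    by_contra hcon
    push Not at hcon
    apply hF1
    rw [Cfsg.Agent.Lib.Helper1.fitting_eq_iSup_pCore]
    simp [hcon]
  obtain ⟨p, hp1⟩ := hex
  have := Fact.mk p.2
  obtain ⟨P⟩ : Nonempty (Sylow (p : ℕ) G) := inferInstance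
  set B := Cfsg.pCore (p : ℕ) G with hB
  have hBn : B.Normal := Cfsg.Agent.Lib.Helper1.pCore_normal _ _
  have hBP : B ≤ P := Cfsg.Agent.Lib.Helper14.pCore_le_sylow P
  have hPnil : Group.IsNilpotent (P : Subgroup G) := P.2.isNilpotent
  have hBsub1 : B.subgroupOf (P : Subgroup G) ≠ ⊥ := by
    intro h
    rw [Subgroup.subgroupOf_eq_bot, disjoint_iff, inf_eq_left.2 hBP] at h
    exact hp1 h
  obtain ⟨z, hzB, hz1, hzc⟩ :=
    Cfsg.Agent.Lib.Helper54.Zass.exists_central_of_normal (B.subgroupOf (P : Subgroup G)) hBsub1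
  have hzB' : (z : G) ∈ B := hzB
  have hz1' : (z : G) ≠ 1 := fun h => hz1 (Subtype.ext h)
  have hPz : (P : Subgroup G) ≤ Subgroup.centralizer ({(z : G)} : Set G) := by
    intro y hy
    rw [Subgroup.mem_centralizer_singleton_iff]
    rw [Subgroup.mem_center_iff] at hzc
    exact congrArg Subtype.val (hzc ⟨y, hy⟩)
  -- `A = Z(B)`
  have hAn : (B ⊓ Subgroup.centralizer (B : Set G)).Normal := inferInstance
  have hzA : (z : G) ∈ B ⊓ Subgroup.centralizer (B : Set G) := by
    refine Subgroup.mem_inf.2 ⟨hzB', ?_⟩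
    rw [Subgroup.mem_centralizer_iff]
    intro b hb
    have := hPz (hBP hb)
    rw [Subgroup.mem_centralizer_singleton_iff] at this
    exact this
  have hA1 : B ⊓ Subgroup.centralizer (B : Set G) ≠ ⊥ := by
    intro h
    rw [h, Subgroup.mem_bot] at hzA
    exact hz1' hzA
  have hAle : B ⊓ Subgroup.centralizer (B : Set G) ≤ Subgroup.centralizer ({(z : G)} : Set G) := by
    intro a ha
    obtain ⟨-, ha2⟩ := Subgroup.mem_inf.1 ha
    rw [Subgroup.mem_centralizer_iff] at ha2
    rw [Subgroup.mem_centralizer_singleton_iff]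
    exact (ha2 z hzB').symm
  have hCzn : (Subgroup.centralizer ({(z : G)} : Set G)).Normal :=
    hTI.normal_of_le _ hA1 hAle
  have hPn : (P : Subgroup G).Normal :=
    Cfsg.Agent.Lib.Helper31.sylow_normal_of_le P _ hCzn (hCN _ hz1') hPz
  have hP1 : (P : Subgroup G) ≠ ⊥ := by
    intro h
    have h2 : (z : G) ∈ (⊥ : Subgroup G) := h ▸ z.2
    exact hz1' (Subgroup.mem_bot.1 h2)
  obtain ⟨hFH1, -, ⟨E, -, hfrob, hfpf⟩, -⟩ := Cfsg.Agent.S1474.result hCN hnn p P hP1 hPn
  have hEN : E ≤ Subgroup.normalizer (Cfsg.fittingHall G : Set G) := by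
    rw [Subgroup.normalizer_eq_top]; exact le_top
  have hFHnil : Group.IsNilpotent (Cfsg.fittingHall G) := Cfsg.Agent.S1474.fittingHall_nilpotent G
  have hEnil : Group.IsNilpotent E :=
    Cfsg.Agent.Lib.Helper31.nilpotent_of_fpf_cn hCN E (Cfsg.fittingHall G) hEN hFH1 inferInstance hfpf
  exact ⟨E, hfrob, nfc hTI E hfrob hEnil⟩

end Cfsg.Agent.Lib.Helper37.CTI
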